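import Cfsg.Agent.Lib.Helper9.TCData.L37B0.S0
import Cfsg.Agent.Lib.Helper9.TCData.L37B0.S1
import Cfsg.Agent.Lib.Helper9.TCData.L37B0.S2
import Cfsg.Agent.Lib.Helper9.TCData.L37B0.S3
import Cfsg.Agent.Lib.Helper9.TCData.L37B0.S4
import Cfsg.Agent.Lib.Helper9.TCData.L37B0.S5
import Cfsg.Agent.Lib.Helper9.TCData.L37B0.S6
import Cfsg.Agent.Lib.Helper9.TCData.L37B0.S7
import Cfsg.Agent.Lib.Helper9.TCData.L37B0.S8

set_option autoImplicit false
set_option maxRecDepth 1000000

namespace Cfsg.Agent.Helper9.TCData.L37B0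
open Cfsg.Agent.Helper9.TC2


theorem hE0 : ∀ u < 60, chkE tab 0 u = true := by
  have h0 : ∀ u < 0, (fun u => chkE tab 0 u) u = true := range_zero
  have h1 : ∀ u < 60, (fun u => chkE tab 0 u) u = true := ext_range (a := 0) (len := 60) h0 e0_0
  exact h1

theorem hE1 : ∀ u < 60, chkE tab 1 u = true := by
  have h0 : ∀ u < 0, (fun u => chkE tab 1 u) u = true := range_zero
  have h1 : ∀ u < 60, (fun u => chkE tab 1 u) u = true := ext_range (a := 0) (len := 60) h0 e1_0
  exact h1

theorem hE2 : ∀ u < 60, chkE tab 2 u = true := by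
  have h0 : ∀ u < 0, (fun u => chkE tab 2 u) u = true := range_zero
  have h1 : ∀ u < 60, (fun u => chkE tab 2 u) u = true := ext_range (a := 0) (len := 60) h0 e2_0
  exact h1

theorem hE3 : ∀ u < 60, chkE tab 3 u = true := by
  have h0 : ∀ u < 0, (fun u => chkE tab 3 u) u = true := range_zero
  have h1 : ∀ u < 60, (fun u => chkE tab 3 u) u = true := ext_range (a := 0) (len := 60) h0 e3_0
  exact h1

theorem hE4 : ∀ u < 60, chkE tab 4 u = true := by
  have h0 : ∀ u < 0, (fun u => chkE tab 4 u) u = true := range_zero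
  have h1 : ∀ u < 60, (fun u => chkE tab 4 u) u = true := ext_range (a := 0) (len := 60) h0 e4_0
  exact h1

theorem hE5 : ∀ u < 60, chkE tab 5 u = true := by
  have h0 : ∀ u < 0, (fun u => chkE tab 5 u) u = true := range_zero
  have h1 : ∀ u < 60, (fun u => chkE tab 5 u) u = true := ext_range (a := 0) (len := 60) h0 e5_0
  exact h1

theorem hL : ∀ u < 60, chkL tab u = true := by
  have h0 : ∀ u < 0, (fun u => chkL tab u) u = true := range_zero
  have h1 : ∀ u < 60, (fun u => chkL tab u) u = true := ext_range (a := 0) (len := 60) h0 l_0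
  exact h1

theorem hF : ∀ u < 57, chkFin tab u = true := by
  have h0 : ∀ u < 0, (fun u => chkFin tab u) u = true := range_zero
  have h1 : ∀ u < 57, (fun u => chkFin tab u) u = true := ext_range (a := 0) (len := 57) h0 f_0
  exact h1

theorem hC : ∀ u < 60, chkCls tab u = true := by
  have h0 : ∀ u < 0, (fun u => chkCls tab u) u = true := range_zero
  have h1 : ∀ u < 60, (fun u => chkCls tab u) u = true := ext_range (a := 0) (len := 60) h0 c_0
  exact h1

theorem hM1 : ∀ u < 57, chkM1 tab u = true := by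
  have h0 : ∀ u < 0, (fun u => chkM1 tab u) u = true := range_zero
  have h1 : ∀ u < 57, (fun u => chkM1 tab u) u = true := ext_range (a := 0) (len := 57) h0 m1_0
  exact h1

theorem hM2 : ∀ u < 57, chkFix tab mwords u = true := by
  have h0 : ∀ u < 0, (fun u => chkFix tab mwords u) u = true := range_zero
  have h1 : ∀ u < 57, (fun u => chkFix tab mwords u) u = true := ext_range (a := 0) (len := 57) h0 m2_0
  exact h1

theorem hO1 : ∀ u < 57, chkO1 tab orb u = true := by
  have h0 : ∀ u < 0, (fun u => chkO1 tab orb u) u = true := range_zero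
  have h1 : ∀ u < 57, (fun u => chkO1 tab orb u) u = true := ext_range (a := 0) (len := 57) h0 o1_0
  exact h1

theorem hO2 : ∀ u < 57, chkO2 tab orb u = true := by
  have h0 : ∀ u < 0, (fun u => chkO2 tab orb u) u = true := range_zero
  have h1 : ∀ u < 57, (fun u => chkO2 tab orb u) u = true := ext_range (a := 0) (len := 57) h0 o2_0
  exact h1

theorem hOL : ∀ u < 57, Nat.blt (orb.lab u) 2 = true := by
  have h0 : ∀ u < 0, (fun u => Nat.blt (orb.lab u) 2) u = true := range_zero
  have h1 : ∀ u < 57, (fun u => Nat.blt (orb.lab u) 2) u = true := ext_range (a := 0) (len := 57) h0 ol_0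
  exact h1

theorem hSlp : ∀ u < 57, chkSlp tab slp u = true := by
  have h0 : ∀ u < 0, (fun u => chkSlp tab slp u) u = true := range_zero
  have h1 : ∀ u < 18, (fun u => chkSlp tab slp u) u = true := ext_range (a := 0) (len := 18) h0 sl_0
  have h2 : ∀ u < 36, (fun u => chkSlp tab slp u) u = true := ext_range (a := 18) (len := 18) h1 sl_1
  have h3 : ∀ u < 54, (fun u => chkSlp tab slp u) u = true := ext_range (a := 36) (len := 18) h2 sl_2
  have h4 : ∀ u < 57, (fun u => chkSlp tab slp u) u = true := ext_range (a := 54) (len := 3) h3 sl_3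
  exact h4

theorem hT0 : ∀ u < 57, chkTree tab (lidx 0) (lpar 0) (lgi 0) 0 [0, 1, 2, 3, 4, 5, 139, 140, 144, 145] u = true := by
  have h0 : ∀ u < 0, (fun u => chkTree tab (lidx 0) (lpar 0) (lgi 0) 0 [0, 1, 2, 3, 4, 5, 139, 140, 144, 145] u) u = true := range_zero
  have h1 : ∀ u < 57, (fun u => chkTree tab (lidx 0) (lpar 0) (lgi 0) 0 [0, 1, 2, 3, 4, 5, 139, 140, 144, 145] u) u = true := ext_range (a := 0) (len := 57) h0 tr0x_0
  exact h1

theorem hT1 : ∀ u < 57, chkTree tab (lidx 1) (lpar 1) (lgi 1) 1 [0, 1, 4, 139, 140, 144, 145] u = true := by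
  have h0 : ∀ u < 0, (fun u => chkTree tab (lidx 1) (lpar 1) (lgi 1) 1 [0, 1, 4, 139, 140, 144, 145] u) u = true := range_zero
  have h1 : ∀ u < 57, (fun u => chkTree tab (lidx 1) (lpar 1) (lgi 1) 1 [0, 1, 4, 139, 140, 144, 145] u) u = true := ext_range (a := 0) (len := 57) h0 tr1x_0
  exact h1

theorem hT2 : ∀ u < 57, chkTree tab (lidx 2) (lpar 2) (lgi 2) 2 [4, 139, 140, 144, 145] u = true := by
  have h0 : ∀ u < 0, (fun u => chkTree tab (lidx 2) (lpar 2) (lgi 2) 2 [4, 139, 140, 144, 145] u) u = true := range_zero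
  have h1 : ∀ u < 57, (fun u => chkTree tab (lidx 2) (lpar 2) (lgi 2) 2 [4, 139, 140, 144, 145] u) u = true := ext_range (a := 0) (len := 57) h0 tr2x_0
  exact h1

theorem hT3 : ∀ u < 57, chkTree tab (lidx 3) (lpar 3) (lgi 3) 3 [139, 140, 144, 145] u = true := by
  have h0 : ∀ u < 0, (fun u => chkTree tab (lidx 3) (lpar 3) (lgi 3) 3 [139, 140, 144, 145] u) u = true := range_zero
  have h1 : ∀ u < 57, (fun u => chkTree tab (lidx 3) (lpar 3) (lgi 3) 3 [139, 140, 144, 145] u) u = true := ext_range (a := 0) (len := 57) h0 tr3x_0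
  exact h1

theorem hX : ∀ u < 57, Nat.beq ((runT tab xw)^[19] u) u = true := by
  have h0 : ∀ u < 0, (fun u => Nat.beq ((runT tab xw)^[19] u) u) u = true := range_zero
  have h1 : ∀ u < 57, (fun u => Nat.beq ((runT tab xw)^[19] u) u) u = true := ext_range (a := 0) (len := 57) h0 x_0
  exact h1

theorem hE : ∀ c < 6, ∀ u < 60, chkE tab c u = true := by
  intro c hc
  interval_cases c
  · exact hE0
  · exact hE1
  · exact hE2
  · exact hE3
  · exact hE4
  · exact hE5

end Cfsg.Agent.Helper9.TCData.L37B0
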