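import Cfsg.Agent.Lib.Helper9.TC2Cox
import Cfsg.Agent.Lib.Helper9.TC2Aux
import Cfsg.Agent.Lib.Helper9.TC2BSGS
import Cfsg.Agent.Lib.Helper9.TC2Pack
import Cfsg.Agent.Lib.Helper9.TCData.L37B0.P0

set_option autoImplicit false
set_option maxRecDepth 100000

namespace Cfsg.Agent.Helper9.TCData.L37B0
open Cfsg.Agent.Helper9.TC2
/-- The rotated relators. -/
noncomputable def rotT : WT := (WT.node 12 (WT.node 6 (WT.node 3 (WT.node 1 (WT.leaf [0, 0, 0]) (WT.node 2 (WT.leaf [0, 5, 0, 5]) (WT.leaf [0, 4, 0, 4]))) (WT.node 4 (WT.leaf [0, 3, 0, 3]) (WT.node 5 (WT.leaf [1, 2, 1, 2, 1, 2]) (WT.leaf [2, 5, 2, 5])))) (WT.node 9 (WT.node 7 (WT.leaf [2, 0, 2, 0, 2, 0]) (WT.node 8 (WT.leaf [2, 4, 2, 4]) (WT.leaf [2, 1, 2, 1, 2, 1]))) (WT.node 10 (WT.leaf [2, 3, 2, 3, 2, 3, 2, 5, 3]) (WT.node 11 (WT.leaf [2, 3, 2, 3, 2, 3, 2, 3, 2, 3, 2, 3, 2, 3, 2, 3]) (WT.leaf [3, 0, 3, 0]))))) (WT.node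 18 (WT.node 15 (WT.node 13 (WT.leaf [3, 5, 3, 5]) (WT.node 14 (WT.leaf [3, 4, 3, 4, 3, 4]) (WT.leaf [3, 2, 3, 2, 3, 2, 5, 3, 2]))) (WT.node 16 (WT.leaf [3, 2, 3, 2, 3, 2, 3, 2, 3, 2, 3, 2, 3, 2, 3, 2]) (WT.node 17 (WT.leaf [4, 2, 4, 2]) (WT.leaf [4, 0, 4, 0])))) (WT.node 21 (WT.node 19 (WT.leaf [4, 3, 4, 3, 4, 3]) (WT.node 20 (WT.leaf [5, 4, 5, 4, 5, 4]) (WT.leaf [5, 3, 5, 3]))) (WT.node 22 (WT.leaf [5, 2, 5, 2]) (WT.node 23 (WT.leaf [5, 0, 5, 0]) (WT.leaf [3, 2, 3, 2, 3, 2, 3, 2, 5]))))))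

/-- The sources of the rotated relators: relator and rotation. -/
def rotSrc : List (ℕ × ℕ) := [(17, 1), (22, 2), (21, 2), (20, 2), (19, 2), (3, 2), (18, 1), (2, 2), (19, 1), (16, 2), (1, 2), (20, 3), (7, 2), (6, 2), (16, 3), (1, 1), (2, 3), (21, 3), (6, 1), (11, 1), (7, 1), (3, 1), (22, 1), (16, 1)]

/-- The relators, as words of columns. -/
def relWords : List (List ℕ) := [[2, 2], [2, 3, 2, 3, 2, 3, 2, 3, 2, 3, 2, 3, 2, 3, 2, 3], [2, 4, 2, 4], [2, 5, 2, 5], [3, 2, 3, 2, 3, 2, 3, 2, 3, 2, 3, 2, 3, 2, 3, 2], [3, 3], [3, 4, 3, 4, 3, 4], [3, 5, 3, 5], [4, 2, 4, 2], [4, 3, 4, 3, 4, 3], [4, 4], [4, 5, 4, 5, 4, 5], [5, 2, 5, 2], [5, 3, 5, 3], [5, 4, 5, 4, 5, 4], [5, 5], [5, 3, 2, 3, 2, 3, 2, 3, 2], [0, 0, 0], [0, 2, 0, 2, 0, 2], [1, 2, 1, 2, 1, 2], [0, 3, 0, 3], [0, 4, 0, 4], [0, 5, 0, 5]]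

/-- The words checked on the permutation model. -/
def mwords : List (List ℕ) := [[2, 3, 2, 3, 2, 3, 2, 3, 2, 3, 2, 3, 2, 3, 2, 3], [2, 4, 2, 4], [2, 5, 2, 5], [3, 4, 3, 4, 3, 4], [3, 5, 3, 5], [4, 5, 4, 5, 4, 5], [5, 3, 2, 3, 2, 3, 2, 3, 2], [0, 0, 0], [0, 2, 0, 2, 0, 2], [1, 2, 1, 2, 1, 2], [0, 3, 0, 3], [0, 4, 0, 4], [0, 5, 0, 5]]

/-- The table. -/
noncomputable def tab : Tab where
  k := 6
  inv := fun c => (bif Nat.beq c 0 then 1 else (bif Nat.beq c 1 then 0 else (bif Nat.beq c 2 then 2 else (bif Nat.beq c 3 then 3 else (bif Nat.beq c 4 then 4 else (bif Nat.beq c 5 then 5 else c))))))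
  N := 60
  n := 57
  Tmax := 355
  wn := 6
  mn := 0x3f
  subs := [[3, 1, 3], [2, 1, 3, 0, 2], [2, 4, 2]]
  rot := fun i => rotT.getF i
  ent := fun c i => bget2 entT_0 1 10 15 0x7fff 1023 c i
  cer := fun c i => bget2 cerT_0 1 10 11 0x7ff 1023 c i
  tau := fun c i => bget2 tauT_0 1 11 6 0x3f 2047 c i
  lk := fun i => bget lkT_0 10 12 0xfff 1023 i
  lc := fun i => bget lcT_0 10 15 0x7fff 1023 i
  pn := fun i => bget pnT_0 10 9 0x1ff 1023 i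
  cls := fun i => bget clsT_0 11 6 0x3f 2047 i
  rep := fun i => bget repT_0 11 6 0x3f 2047 i

/-- The straight line program of the further columns. -/
def slp : List (ℕ × List ℕ) := [(0, [3, 3]), (0, [0, 6]), (0, [5, 3]), (0, [7, 8]), (0, [1, 3]), (0, [9, 10]), (0, [4, 1]), (0, [11, 12]), (0, [12, 6]), (0, [13, 14]), (0, [2, 12]), (0, [15, 16]), (0, [14, 2]), (0, [17, 18]), (0, [0, 16]), (0, [19, 20]), (0, [18, 1]), (0, [21, 22]), (0, [10, 0]), (0, [23, 24]), (0, [0, 4]), (0, [25, 26]), (0, [0, 24]), (0, [27, 28]), (0, [18, 8]), (0, [29, 30]), (0, [30, 12]), (0, [31, 32]), (0, [28, 4]), (0, [33, 34]), (0, [34, 24]), (0, [35, 36]), (0, [36, 24]), (0, [37, 38]), (0, [26, 8]), (0, [39, 40]), (0, [32, 38]), (0, [41, 42]), (0, [20, 40]), (0, [43, 44]), (0, [22, 42]), (0, [45, 46]), (0, [14, 46]), (0, [47, 48]), (0, [12, 22]), (0, [49, 50]), (0, [12, 50]), (0, [51, 52]), (0, [36,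 50]), (0, [53, 54]), (0, [26, 4]), (0, [55, 56]), (0, [36, 54]), (0, [57, 58]), (0, [46, 56]), (0, [59, 60]), (0, [44, 60]), (0, [61, 62]), (0, [4, 20]), (0, [63, 64]), (0, [56, 64]), (0, [65, 66]), (0, [62, 54]), (0, [67, 68]), (0, [48, 58]), (0, [69, 70]), (0, [32, 64]), (0, [71, 72]), (0, [32, 44]), (0, [73, 74]), (0, [52, 58]), (0, [75, 76]), (0, [62, 76]), (0, [77, 78]), (0, [62, 68]), (0, [79, 80]), (0, [20, 72]), (0, [81, 82]), (0, [70, 72]), (0, [83, 84]), (0, [72, 82]), (0, [85, 86]), (0, [66, 74]), (0, [87, 88]), (0, [62, 88]), (0, [89, 90]), (0, [90, 32]), (0, [91, 92]), (0, [88, 52]), (0, [93, 94]), (0, [92, 94]), (0, [95, 96]), (0, [66, 52]), (0, [97, 98]), (0, [66, 96]), (0, [99, 100]), (0, [86, 98]), (0, [101, 102]), (0, [96, 32]), (0, [103, 104]), (0, [104, 92]), (0, [105, 106]), (0, [80, 78]), (0, [107, 108]), (0, [92, 100]), (0, [109, 110]), (0, [86, 32]),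 (0, [111, 112]), (0, [86, 84]), (0, [113, 114]), (0, [108, 80]), (0, [115, 116]), (0, [106, 84]), (0, [117, 118]), (0, [112, 80]), (0, [119, 120]), (0, [84, 92]), (0, [121, 122]), (0, [122, 80]), (0, [123, 124]), (0, [118, 124]), (0, [125, 126]), (0, [2, 1, 127]), (1, [128]), (0, [120, 92]), (0, [127, 130]), (0, [129, 129, 2, 1, 131]), (1, [132]), (0, [80, 118]), (0, [131, 134]), (0, [1, 129, 133, 128, 2, 0, 5, 135]), (0, [134, 130]), (0, [135, 137]), (0, [136, 133, 0, 128, 133, 2, 128, 138]), (1, [139]), (1, [136]), (0, [82, 114]), (0, [138, 142]), (0, [141, 140, 4, 128, 128, 0, 2, 1, 5, 143]), (1, [144])]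

/-- The levels: base point, generating columns, size of the orbit. -/
def levs : List (ℕ × List ℕ × ℕ) := [(0, [0, 1, 2, 3, 4, 5, 139, 140, 144, 145], 57), (1, [0, 1, 4, 139, 140, 144, 145], 56), (2, [4, 139, 140, 144, 145], 49), (3, [139, 140, 144, 145], 12)]

/-- A record of the trees of the orbits. -/
noncomputable def lidx : ℕ → ℕ → ℕ := fun c i => bget2 lidxT_0 1 11 6 0x3f 2047 c i

/-- A record of the trees of the orbits. -/
noncomputable def lpar : ℕ → ℕ → ℕ := fun c i => bget2 lparT_0 1 11 6 0x3f 2047 c i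

/-- A record of the trees of the orbits. -/
noncomputable def lgi : ℕ → ℕ → ℕ := fun c i => bget2 lgiT_0 1 12 4 0xf 4095 c i

/-- The word of the element of prime power order. -/
def xw : List ℕ := [0, 2, 3, 4, 5]


/-- The orbit certificate. -/
noncomputable def orb : OrbData where
  lab := fun i => bget labT_0 14 1 0x1 16383 i
  dep := fun i => bget depT_0 12 4 0xf 4095 i
  oj := fun i => bget ojT_0 13 2 0x3 8191 i
  root := fun i => bget rootT_0 14 1 0x1 16383 i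

end Cfsg.Agent.Helper9.TCData.L37B0
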